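import Cfsg.Agent.H177.HT.Main

/-!
# S3540 / S3577, HT-E A5 (helper755): the numbers for `|Z(N)| = 2`

`Sym_numbers_plus`, `Sym_numbers_minus`.
-/

set_option autoImplicit false

open scoped commutatorElement
open Finset

namespace Cfsg.Agent.H755.HT

open Cfsg.Agent.H662.HT

universe u v

section grp

variable {a : ℕ} {N : Type u} {V : Type v} [Group N] [AddCommGroup V] [DistribMulAction N V]

theorem sq_center (hz : Nat.card (Subgroup.center N) = 2) {z : N} (h : z ∈ Subgroup.center N) : z ^ 2 = 1 := by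
  have h1 : (⟨z, h⟩ : Subgroup.center N) ^ 2 = 1 := by rw [← hz]; exact pow_card_eq_one'
  exact congrArg Subtype.val h1

/-- products of elements of `S` and of the centre -/
def mp (S : Subgroup N) : ↥S × ↥(Subgroup.center N) → N := fun x => (x.1 : N) * (x.2 : N)

theorem mp_inj {S : Subgroup N} (hS : S ⊓ Subgroup.center N = ⊥) : Function.Injective (mp S) := by
  rintro ⟨⟨x, hx⟩, ⟨z, hz⟩⟩ ⟨⟨y, hy⟩, ⟨w, hw⟩⟩ h
  have h' : x * z = y * w := h
  have h1 : y⁻¹ * x = w * z⁻¹ := by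
    rw [inv_mul_eq_iff_eq_mul, ← mul_assoc, ← h', mul_inv_cancel_right]
  have h2 : y⁻¹ * x ∈ S ⊓ Subgroup.center N :=
    ⟨S.mul_mem (S.inv_mem hy) hx, by rw [h1]; exact Subgroup.mul_mem _ hw (Subgroup.inv_mem _ hz)⟩
  rw [hS, Subgroup.mem_bot] at h2
  have h3 : x = y := (inv_mul_eq_one.1 h2).symm
  subst h3
  have h4 : z = w := mul_left_cancel h'
  subst h4
  rfl

theorem mp_mem (H : Sym 2 a N V) (hz : Nat.card (Subgroup.center N) = 2) {S : Subgroup N}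
    (hS : S ⊓ Subgroup.center N = ⊥) (x : ↥S × ↥(Subgroup.center N)) : mp S x ∈ sol 2 S := by
  obtain ⟨⟨x, hx⟩, ⟨z, hzz⟩⟩ := x
  show x * z ∈ sol 2 S
  have hc := Subgroup.mem_center_iff.1 hzz
  refine ⟨?_, ?_⟩
  · rw [Subgroup.mem_centralizer_iff]
    intro y hy
    rw [← mul_assoc, H.commS hS hy hx, mul_assoc, hc y, ← mul_assoc]
  · rw [pow_two]
    have h1 := H.expS hS hx
    have h2 := sq_center hz hzz
    rw [pow_two] at h1 h2
    rw [mul_assoc, ← mul_assoc z, ← hc x, mul_assoc, h2, mul_one, h1]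

theorem card_prod (hz : Nat.card (Subgroup.center N) = 2) (S : Subgroup N) :
    Nat.card (↥S × ↥(Subgroup.center N)) = Nat.card S * 2 := by
  rw [Nat.card_prod, hz]

/-- more solutions than `2 |S|` -/
theorem exists_not (H : Sym 2 a N V) (hz : Nat.card (Subgroup.center N) = 2) {S : Subgroup N}
    (hlt : Nat.card S * 2 < Nat.card (sol 2 S)) : ∃ n ∈ sol 2 S, n ∉ Set.range (mp S) := by
  have := H.fin
  by_contra hcon
  push Not at hcon
  have h1 : sol 2 S ⊆ Set.range (mp S) := hcon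
  have h2 : Nat.card (sol 2 S) ≤ Nat.card (Set.range (mp S)) := Nat.card_mono (Set.toFinite _) h1
  have h3 : Nat.card (Set.range (mp S)) ≤ Nat.card (↥S × ↥(Subgroup.center N)) := Finite.card_range_le _
  rw [card_prod hz] at h3
  omega

theorem lt_of_not (H : Sym 2 a N V) (hz : Nat.card (Subgroup.center N) = 2) {S : Subgroup N}
    (hS : S ⊓ Subgroup.center N = ⊥) {n : N} (hn : n ∈ sol 2 S) (hn' : n ∉ Set.range (mp S)) :
    Nat.card S * 2 < Nat.card (sol 2 S) := by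
  have := H.fin
  rw [← card_prod hz, ← Nat.card_range_of_injective (mp_inj hS)]
  have h1 : Set.range (mp S) ⊂ sol 2 S := by
    refine ⟨?_, fun h => hn' (h hn)⟩
    rintro _ ⟨x, rfl⟩
    exact mp_mem H hz hS x
  exact Set.ncard_lt_ncard h1 (Set.toFinite _)

/-- the subgroup generated by `S` and an involution `n` -/
def ext (S : Subgroup N) (n : N) (hn : n ∈ sol 2 S) : Subgroup N where
  carrier := {x | x ∈ S ∨ x * n ∈ S}
  one_mem' := Or.inl S.one_mem
  mul_mem' := by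
    have hc := Subgroup.mem_centralizer_iff.1 hn.1
    have h2 : n * n = 1 := by rw [← pow_two]; exact hn.2
    rintro x y (hx | hx) (hy | hy)
    · exact Or.inl (S.mul_mem hx hy)
    · exact Or.inr (by rw [mul_assoc]; exact S.mul_mem hx hy)
    · refine Or.inr ?_
      have h3 : x * y * n = (x * n) * y := by rw [mul_assoc, hc y hy, ← mul_assoc]
      rw [h3]
      exact S.mul_mem hx hy
    · refine Or.inl ?_
      have h3 : x * y = (x * n) * (y * n) := by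
        have h4 := hc _ hy
        rw [mul_assoc x n, ← h4, mul_assoc y n n, h2, mul_one]
      rw [h3]
      exact S.mul_mem hx hy
  inv_mem' := by
    have hc := Subgroup.mem_centralizer_iff.1 hn.1
    have h2 : n * n = 1 := by rw [← pow_two]; exact hn.2
    have h2' : n⁻¹ = n := inv_eq_of_mul_eq_one_left h2
    rintro x (hx | hx)
    · exact Or.inl (S.inv_mem hx)
    · refine Or.inr ?_
      have h3 : x⁻¹ * n = (x * n)⁻¹ := by
        have h4 := hc _ (S.inv_mem hx)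
        rw [mul_inv_rev, h2'] at h4 ⊢
        have h5 : n * x⁻¹ * n = x⁻¹ := by
          rw [h4, ← mul_assoc, h2, one_mul]
        have h6 : x⁻¹ * n = n * (n * x⁻¹ * n) := by
          rw [← mul_assoc, ← mul_assoc, h2, one_mul]
        rw [h6, h5]
      rw [h3]
      exact S.inv_mem hx

theorem ext_inf {S : Subgroup N} (hS : S ⊓ Subgroup.center N = ⊥) {n : N} (hn : n ∈ sol 2 S)
    (hn' : n ∉ Set.range (mp S)) : ext S n hn ⊓ Subgroup.center N = ⊥ := by
  rw [eq_bot_iff]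
  rintro x ⟨hx, hxz⟩
  rcases hx with hx | hx
  · rw [← hS]
    exact ⟨hx, hxz⟩
  · exfalso
    apply hn'
    refine ⟨(⟨x * n, hx⟩, ⟨x⁻¹, Subgroup.inv_mem _ hxz⟩), ?_⟩
    show x * n * x⁻¹ = n
    rw [← Subgroup.mem_center_iff.1 hxz n, mul_inv_cancel_right]

/-- a subgroup `S` with few solutions -/
theorem exists_max (H : Sym 2 a N V) (hz : Nat.card (Subgroup.center N) = 2) :
    ∃ S : Subgroup N, S ⊓ Subgroup.center N = ⊥ ∧ Nat.card (sol 2 S) ≤ Nat.card S * 2 := by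
  have := H.fin
  obtain ⟨S, hS⟩ := (Set.toFinite {S : Subgroup N | S ⊓ Subgroup.center N = ⊥}).exists_maximal ⟨⊥, bot_inf_eq _⟩
  refine ⟨S, hS.1, ?_⟩
  by_contra hlt
  rw [not_le] at hlt
  obtain ⟨n, hn, hn'⟩ := exists_not H hz hlt
  have h1 : S ≤ ext S n hn := fun x hx => Or.inl hx
  have h2 := hS.2 (ext_inf hS.1 hn hn') h1
  have h3 : n ∈ ext S n hn := Or.inr (by
    have : n * n = 1 := by rw [← pow_two]; exact hn.2
    rw [this]
    exact S.one_mem)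
  apply hn'
  exact ⟨(⟨n, h2 h3⟩, 1), by show n * 1 = n; rw [mul_one]⟩

end grp

section arith

theorem prod_plus (a : ℕ) : ∏ j ∈ range a, (2 ^ (2 * a - j) + 2 ^ a - 2 ^ (j + 1)) =
    (∏ j ∈ range a, (2 ^ a - 2 ^ j)) * (2 ^ a * ∏ i ∈ range a, (2 ^ i + 1)) := by
  have h1 : (2 : ℕ) ^ a * ∏ i ∈ range a, (2 ^ i + 1) = ∏ j ∈ range a, (2 * (2 ^ (a - 1 - j) + 1)) := by
    rw [prod_mul_distrib, prod_const, card_range, prod_range_reflect (fun i => 2 ^ i + 1)]
  rw [h1, ← prod_mul_distrib]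
  refine prod_congr rfl fun j hj => ?_
  rw [mem_range] at hj
  obtain ⟨k, rfl⟩ : ∃ k, a = j + k + 1 := ⟨a - 1 - j, by omega⟩
  have e1 : 2 * (j + k + 1) - j = j + (k + 1) * 2 := by omega
  have e2 : j + k + 1 - 1 - j = k := by omega
  rw [e1, e2]
  obtain ⟨t, ht⟩ : ∃ t, t = 2 ^ j := ⟨_, rfl⟩
  obtain ⟨y, hy⟩ : ∃ y, y + 1 = 2 ^ k := ⟨2 ^ k - 1, Nat.sub_add_cancel Nat.one_le_two_pow⟩
  have e3 : (2 : ℕ) ^ (j + (k + 1) * 2) = t * (2 * (y + 1)) ^ 2 := by
    rw [pow_add, pow_mul, pow_succ 2 k, ← hy, ← ht]; ring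
  have e4 : (2 : ℕ) ^ (j + k + 1) = t * (2 * (y + 1)) := by
    rw [pow_succ, pow_add, ← hy, ← ht]; ring
  rw [e3, e4, pow_succ 2 j, ← ht, ← hy]
  have e5 : t * (2 * (y + 1)) ^ 2 + t * (2 * (y + 1)) = t * (2 * y + 1) * (2 * (y + 1 + 1)) + t * 2 := by ring
  have e6 : t * (2 * (y + 1)) = t * (2 * y + 1) + t := by ring
  rw [e5, e6, Nat.add_sub_cancel, Nat.add_sub_cancel]

theorem prod_Icc (b : ℕ) : ∏ j ∈ range b, (2 ^ (j + 2) + 1) = ∏ i ∈ Icc 2 (b + 1), (2 ^ i + 1) := by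
  induction b with
  | zero => simp
  | succ b ih =>
    rw [prod_range_succ, ih, ← prod_Icc_succ_top (a := 2) (b := b + 1) (by omega) (fun i => 2 ^ i + 1)]

theorem prod_minus (b : ℕ) : ∏ j ∈ range b, (2 ^ (2 * (b + 1) - j) - 2 ^ (b + 1) - 2 ^ (j + 1)) =
    (∏ j ∈ range b, (2 ^ b - 2 ^ j)) * (2 ^ b * ∏ i ∈ Icc 2 (b + 1), (2 ^ i + 1)) := by
  have h1 : (2 : ℕ) ^ b * ∏ i ∈ Icc 2 (b + 1), (2 ^ i + 1) = ∏ j ∈ range b, (2 * (2 ^ (b - 1 - j + 2) + 1)) := by
    rw [prod_mul_distrib, prod_const, card_range, prod_range_reflect (fun i => 2 ^ (i + 2) + 1), prod_Icc]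
  rw [h1, ← prod_mul_distrib]
  refine prod_congr rfl fun j hj => ?_
  rw [mem_range] at hj
  obtain ⟨k, rfl⟩ : ∃ k, b = j + k + 1 := ⟨b - 1 - j, by omega⟩
  have e1 : 2 * (j + k + 1 + 1) - j = j + (k + 2) * 2 := by omega
  have e2 : j + k + 1 - 1 - j = k := by omega
  rw [e1, e2]
  obtain ⟨t, ht⟩ : ∃ t, t = 2 ^ j := ⟨_, rfl⟩
  obtain ⟨y, hy⟩ : ∃ y, y + 1 = 2 ^ k := ⟨2 ^ k - 1, Nat.sub_add_cancel Nat.one_le_two_pow⟩
  have e3 : (2 : ℕ) ^ (j + (k + 2) * 2) = t * (4 * (y + 1)) ^ 2 := by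
    rw [pow_add, pow_mul, pow_add 2 k, ← hy, ← ht]; ring
  have e4 : (2 : ℕ) ^ (j + k + 1 + 1) = t * (4 * (y + 1)) := by
    rw [pow_succ, pow_succ, pow_add, ← hy, ← ht]; ring
  have e4' : (2 : ℕ) ^ (j + k + 1) = t * (2 * (y + 1)) := by
    rw [pow_succ, pow_add, ← hy, ← ht]; ring
  have e7 : (2 : ℕ) ^ (k + 2) = 4 * (y + 1) := by rw [pow_succ, pow_succ, ← hy]; ring
  rw [e3, e4, e4', e7, pow_succ 2 j, ← ht]
  have e5 : t * (4 * (y + 1)) ^ 2 = t * (2 * y + 1) * (2 * (4 * (y + 1) + 1)) + t * 2 + t * (4 * (y + 1)) := by ring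
  have e6 : t * (2 * (y + 1)) = t * (2 * y + 1) + t := by ring
  rw [e5, e6, Nat.add_sub_cancel, Nat.add_sub_cancel, Nat.add_sub_cancel]

theorem prod_pos' (a b : ℕ) (h : b ≤ a) : 0 < ∏ j ∈ range b, (2 ^ a - 2 ^ j) := by
  refine prod_pos fun j hj => ?_
  rw [mem_range] at hj
  exact Nat.sub_pos_of_lt (Nat.pow_lt_pow_right (by norm_num) (by omega))

/-- `3 ^ (2 ^ (a - 1)) ≥ 4 ^ a + 2 ^ a` for `a ≥ 3` -/
theorem three_pow (a : ℕ) : 2 ^ (2 * (a + 3)) + 2 ^ (a + 3) ≤ 3 ^ (2 ^ (a + 2)) := by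
  induction a with
  | zero => norm_num
  | succ a ih =>
    have h1 : (3 : ℕ) ^ (2 ^ (a + 1 + 2)) = (3 ^ (2 ^ (a + 2))) ^ 2 := by
      rw [← pow_mul, ← pow_succ]
    rw [h1]
    have h2 : (2 ^ (2 * (a + 3)) + 2 ^ (a + 3)) ^ 2 ≤ ((3 : ℕ) ^ (2 ^ (a + 2))) ^ 2 := Nat.pow_le_pow_left ih 2
    refine le_trans ?_ h2
    obtain ⟨t, ht⟩ : ∃ t, t = 2 ^ (a + 3) := ⟨_, rfl⟩
    have h3 : (2 : ℕ) ^ (2 * (a + 3)) = t ^ 2 := by rw [ht, ← pow_mul, mul_comm]
    have h4 : (2 : ℕ) ^ (2 * (a + 1 + 3)) = 4 * t ^ 2 := by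
      rw [← h3, show 2 * (a + 1 + 3) = 2 * (a + 3) + 2 by ring, pow_add]; ring
    have h5 : (2 : ℕ) ^ (a + 1 + 3) = 2 * t := by rw [ht]; ring
    have h6 : 8 ≤ t := by rw [ht, pow_add]; exact Nat.le_mul_of_pos_left _ (by positivity)
    rw [h3, h4, h5, ← ht]
    nlinarith [h6, Nat.zero_le (t ^ 3), Nat.zero_le (t ^ 2), sq_nonneg (t : ℤ)]

end arith

section main

variable {a : ℕ} {N : Type u} {V : Type v} [Group N] [AddCommGroup V] [DistribMulAction N V]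

theorem card_V (H : Sym 2 a N V) : 1 < Nat.card V := by
  have := H.finV
  have := H.nt
  exact Finite.one_lt_card

theorem one_lt_of_pow (H : Sym 2 a N V) {Q k : ℕ} (h : Nat.card V = Q ^ k) (hk : k ≠ 0) : 1 < Q := by
  have h1 := card_V H
  rw [h] at h1
  rcases Nat.lt_or_ge 1 Q with h2 | h2
  · exact h2
  · interval_cases Q
    · rw [zero_pow hk] at h1; omega
    · rw [one_pow] at h1; omega

/-- the stabiliser of a nonzero fixed vector of a subgroup without further solutions -/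
theorem stab_eq (H : Sym 2 a N V) (hz : Nat.card (Subgroup.center N) = 2) {S : Subgroup N}
    (hS : S ⊓ Subgroup.center N = ⊥) (hs : Nat.card (sol 2 S) ≤ Nat.card S * 2) {v : V} (hv : v ∈ fixp V S)
    (hv0 : v ≠ 0) : MulAction.stabilizer N v = S := by
  have hT := H.stab_inf hv0
  have hle : S ≤ MulAction.stabilizer N v := fun x hx => hv x hx
  refine le_antisymm (fun n hn => ?_) hle
  by_contra hnS
  have h1 : n ∈ sol 2 S := by
    refine ⟨?_, H.expS hT hn⟩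
    rw [Subgroup.mem_centralizer_iff]
    intro x hx
    exact H.commS hT (hle hx) hn
  have h2 : n ∉ Set.range (mp S) := by
    rintro ⟨⟨⟨x, hx⟩, ⟨z, hzz⟩⟩, h⟩
    have h' : x * z = n := h
    have h3 : z ∈ MulAction.stabilizer N v ⊓ Subgroup.center N := by
      refine ⟨?_, hzz⟩
      have : z = x⁻¹ * n := by rw [← h', inv_mul_cancel_left]
      rw [this]
      exact Subgroup.mul_mem _ (Subgroup.inv_mem _ (hle hx)) hn
    rw [hT, Subgroup.mem_bot] at h3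
    rw [h3, mul_one] at h'
    exact hnS (h' ▸ hx)
  have := lt_of_not H hz hS h1 h2
  omega

/-- the centraliser of `S` acts on the nonzero fixed vectors of `S` -/
def act (S : Subgroup N) : SubMulAction (Subgroup.centralizer (S : Set N)) V where
  carrier := {v | v ∈ fixp V S ∧ v ≠ 0}
  smul_mem' := by
    rintro ⟨g, hg⟩ v ⟨hv, hv0⟩
    rw [Subgroup.mem_centralizer_iff] at hg
    refine ⟨fun x hx => ?_, ?_⟩
    · show x • g • v = g • v
      rw [← mul_smul, hg x hx, mul_smul, hv x hx]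
    · show g • v ≠ 0
      exact fun h => hv0 (by rwa [smul_eq_zero_iff_eq] at h)

theorem dvd_act (H : Sym 2 a N V) (hz : Nat.card (Subgroup.center N) = 2) {S : Subgroup N}
    (hS : S ⊓ Subgroup.center N = ⊥) (hs : Nat.card (sol 2 S) ≤ Nat.card S * 2) {k : ℕ}
    (hk : Nat.card (Subgroup.centralizer (S : Set N)) = k * Nat.card S) : k ∣ Nat.card (fixp V S) - 1 := by
  classical
  have := H.fin
  have := H.finV
  have hSC : S ≤ Subgroup.centralizer (S : Set N) := by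
    intro x hx
    rw [Subgroup.mem_centralizer_iff]
    intro y hy
    exact H.commS hS hy hx
  have hS0 : 0 < Nat.card S := Nat.card_pos
  have hstab : ∀ x : ↥(act (V := V) S), Nat.card (MulAction.stabilizer (Subgroup.centralizer (S : Set N)) x) =
      Nat.card S := by
    rintro ⟨v, hv, hv0⟩
    have h1 : MulAction.stabilizer (Subgroup.centralizer (S : Set N)) (⟨v, hv, hv0⟩ : ↥(act (V := V) S)) =
        S.subgroupOf (Subgroup.centralizer (S : Set N)) := by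
      ext ⟨g, hg⟩
      rw [MulAction.mem_stabilizer_iff, Subgroup.mem_subgroupOf]
      have h2 := stab_eq H hz hS hs hv hv0
      constructor
      · intro h
        have h3 : g ∈ MulAction.stabilizer N v := congrArg Subtype.val h
        rwa [h2] at h3
      · intro h
        apply Subtype.ext
        exact hv g h
    rw [h1]
    exact Nat.card_congr (Subgroup.subgroupOfEquivOfLe hSC).toEquiv
  have hcard : Nat.card (fixp V S) - 1 = Nat.card ↥(act (V := V) S) := by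
    have e : {x : fixp V S // x ≠ 0} ≃ ↥(act (V := V) S) :=
      { toFun := fun x => ⟨x.1.1, x.1.2, fun h => x.2 (Subtype.ext h)⟩
        invFun := fun x => ⟨⟨x.1, x.2.1⟩, fun h => x.2.2 (congrArg Subtype.val h)⟩
        left_inv := fun _ => rfl
        right_inv := fun _ => rfl }
    rw [← Nat.card_congr e]
    have : Fintype (fixp V S) := Fintype.ofFinite _
    rw [Nat.card_eq_fintype_card, Nat.card_eq_fintype_card, Fintype.card_subtype_compl, Fintype.card_subtype_eq]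
  rw [hcard]
  have : Fintype ↥(act (V := V) S) := Fintype.ofFinite _
  have : Fintype (Subgroup.centralizer (S : Set N)) := Fintype.ofFinite _
  rw [Nat.card_eq_fintype_card, MulAction.card_eq_sum_card_group_div_card_stabilizer
    (Subgroup.centralizer (S : Set N)) ↥(act (V := V) S)]
  refine Finset.dvd_sum fun w _ => ?_
  rw [← Nat.card_eq_fintype_card, ← Nat.card_eq_fintype_card, hstab, hk, Nat.mul_div_cancel _ hS0]

theorem sub_pow_pos {x y k : ℕ} (hk : k ≠ 0) (h : x ^ k = y ^ k) : x = y := Nat.pow_left_injective hk h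

/-- **A5, plus type** -/
theorem Sym_numbers_plus (H : Sym 2 a N V) (hz : Nat.card (Subgroup.center N) = 2) (ha : 2 ≤ a)
    (hσ : Nat.card (sol 2 (⊥ : Subgroup N)) = 2 ^ (2 * a) + 2 ^ a) :
    ∃ Q : ℕ, 1 < Q ∧ Nat.card V = Q ^ (2 ^ a) ∧
      Nat.card (spec 2 a N V) = 2 ^ a * (∏ i ∈ range a, (2 ^ i + 1)) * (Q - 1) ∧
      ∃ v : V, v ≠ 0 ∧ MulAction.stabilizer N v = ⊥ := by
  obtain ⟨σ, -, hsol⟩ := Cfsg.Agent.H990.HT.sol_two_of H hz (fun _ hS => Cfsg.Agent.H813.HT.Sym_card_cen H hS)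
  have hσ2 : σ = 2 ^ a := by
    have h1 := hsol ⊥ (bot_inf_eq _)
    rw [hσ, Subgroup.card_bot] at h1
    push_cast at h1
    linarith
  subst hσ2
  -- the numbers of solutions
  have hf : ∀ S : Subgroup N, S ⊓ Subgroup.center N = ⊥ → ∀ j ≤ a, Nat.card S = 2 ^ j →
      Nat.card (sol 2 S) = 2 ^ (2 * a - j) + 2 ^ a := by
    intro S hS j hj hSj
    have h1 := hsol S hS
    rw [hSj] at h1
    have h2 : Nat.card (sol 2 S) * 2 ^ j = (2 ^ (2 * a - j) + 2 ^ a) * 2 ^ j := by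
      rw [add_mul, ← pow_add, Nat.sub_add_cancel (by omega)]
      exact_mod_cast h1
    exact Nat.eq_of_mul_eq_mul_right (by positivity) h2
  obtain ⟨S, hS, hSmax⟩ := exists_max H hz
  obtain ⟨j, hj, hSj⟩ := Cfsg.Agent.H813.HT.Sym_card_eq H hS
  have hja : j = a := by
    by_contra hne
    rw [hf S hS j hj hSj, hSj, ← pow_succ] at hSmax
    have h1 : (2 : ℕ) ^ (j + 1) ≤ 2 ^ a := Nat.pow_le_pow_right (by norm_num) (by omega)
    have h2 : 0 < (2 : ℕ) ^ (2 * a - j) := by positivity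
    omega
  subst hja
  obtain ⟨Q, hQ⟩ : ∃ Q, Q = Nat.card (fixp V S) := ⟨_, rfl⟩
  have hV : Nat.card V = Q ^ 2 ^ j := by rw [hQ, ← hSj]; exact Cfsg.Agent.H813.HT.Sym_card_fixp H hS
  have hQ1 : 1 < Q := one_lt_of_pow H hV (by positivity)
  have hspec := Cfsg.Agent.H486.HT.card_spec H (r := j) (Q := Q) (f := fun i => 2 ^ (2 * j - i) + 2 ^ j) hf
    (by
      show 2 ^ (2 * j - j) + 2 ^ j = 2 ^ (j + 1)
      rw [two_mul, Nat.add_sub_cancel, pow_succ, mul_two])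
    (by
      intro S' hS' hS'j
      apply sub_pow_pos (k := 2 ^ j) (by positivity)
      rw [← hV, ← hS'j]
      exact (Cfsg.Agent.H813.HT.Sym_card_fixp H hS').symm)
  rw [prod_plus] at hspec
  have hsp : Nat.card (spec 2 j N V) = 2 ^ j * (∏ i ∈ range j, (2 ^ i + 1)) * (Q - 1) := by
    have h1 := prod_pos' j j le_rfl
    have h2 : Nat.card (spec 2 j N V) * ∏ i ∈ range j, (2 ^ j - 2 ^ i) =
        (2 ^ j * (∏ i ∈ range j, (2 ^ i + 1)) * (Q - 1)) * ∏ i ∈ range j, (2 ^ j - 2 ^ i) := by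
      rw [hspec]; ring
    exact Nat.eq_of_mul_eq_mul_right h1 h2
  refine ⟨Q, hQ1, hV, hsp, ?_⟩
  have hF : Nat.card V = (Q ^ 2 ^ (j - 1)) ^ 2 := by
    rw [hV, ← pow_mul, ← pow_succ, Nat.sub_add_cancel (by omega)]
  refine Cfsg.Agent.H177.HT.Sym_free_of_lt H (r := j) (by omega) hF ?_
  rw [hσ, hF, hsp]
  rcases Nat.lt_or_ge 2 j with h3 | h3
  · -- `j ≥ 3`
    obtain ⟨k, rfl⟩ : ∃ k, j = k + 3 := ⟨j - 3, by omega⟩
    have hQ3 : 3 ≤ Q := by
      have h4 := H.cop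
      rcases Nat.lt_or_ge Q 3 with h5 | h5
      · exfalso
        apply h4
        have h6 : Q = 2 := by omega
        rw [hV, h6]
        exact dvd_pow_self 2 (by positivity)
      · exact h5
    have h4 := three_pow k
    have h5 : 3 ^ 2 ^ (k + 2) ≤ Q ^ 2 ^ (k + 3 - 1) := Nat.pow_le_pow_left hQ3 _
    obtain ⟨F, hFd⟩ : ∃ F, F + 1 = Q ^ 2 ^ (k + 3 - 1) := ⟨Q ^ 2 ^ (k + 3 - 1) - 1, Nat.sub_add_cancel
      (Nat.one_le_pow _ _ (by omega))⟩
    rw [← hFd] at h5 ⊢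
    have h6 : (F + 1) ^ 2 - 1 = F * (F + 2) := by
      have : (F + 1) ^ 2 = F * (F + 2) + 1 := by ring
      rw [this, Nat.add_sub_cancel]
    have hF0 : 0 < F := by
      have : 0 < (2 : ℕ) ^ (2 * (k + 3)) := by positivity
      have : 0 < (2 : ℕ) ^ (k + 3) := by positivity
      omega
    rw [h6, Nat.add_sub_cancel]
    have h7 : (2 ^ (2 * (k + 3)) + 2 ^ (k + 3) - 2) * F < F * (F + 2) := by
      rw [mul_comm]
      exact Nat.mul_lt_mul_of_pos_left (by omega) hF0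
    have h8 : (2 - 1) * (F * (F + 2)) = F * (F + 2) := by norm_num
    rw [h8]
    omega
  · -- `j = 2`
    have h4 : j = 2 := by omega
    subst h4
    obtain ⟨x, rfl⟩ : ∃ x, Q = x + 2 := ⟨Q - 2, by omega⟩
    have e1 : ((x + 2) ^ 2 ^ (2 - 1)) ^ 2 = (x + 2) ^ 4 := by rw [← pow_mul]; norm_num
    have e2 : (x + 2) ^ 2 ^ (2 - 1) = (x + 2) ^ 2 := rfl
    rw [e1, e2]
    have e3 : (x + 2) ^ 2 - 1 = (x + 1) * (x + 3) := by
      have : (x + 2) ^ 2 = (x + 1) * (x + 3) + 1 := by ring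
      rw [this, Nat.add_sub_cancel]
    have e4 : (x + 2) ^ 4 - 1 = (x + 1) * (x + 3) * ((x + 2) ^ 2 + 1) := by
      have : (x + 2) ^ 4 = (x + 1) * (x + 3) * ((x + 2) ^ 2 + 1) + 1 := by ring
      rw [this, Nat.add_sub_cancel]
    have e5 : x + 2 - 1 = x + 1 := rfl
    rw [e3, e4, e5, prod_range_succ, prod_range_one]
    have e6 : (2 ^ (2 * 2) + 2 ^ 2 - 2) * ((x + 1) * (x + 3)) = (x + 1) * (18 * (x + 3)) := by norm_num; ring
    have e7 : (2 - 1) * ((x + 1) * (x + 3) * ((x + 2) ^ 2 + 1)) +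
        (2 ^ 2 - 2) * (2 ^ 2 * ((2 ^ 0 + 1) * (2 ^ 1 + 1)) * (x + 1)) =
        (x + 1) * ((x + 3) * ((x + 2) ^ 2 + 1) + 48) := by norm_num; ring
    rw [e6, e7]
    refine Nat.mul_lt_mul_of_pos_left ?_ (by omega)
    zify
    nlinarith [sq_nonneg ((x : ℤ) - 1), sq_nonneg ((x : ℤ)), mul_nonneg (Int.natCast_nonneg x) (sq_nonneg ((x : ℤ) - 1))]

/-- **A5, minus type** -/
theorem Sym_numbers_minus (H : Sym 2 a N V) (hz : Nat.card (Subgroup.center N) = 2) (ha : 2 ≤ a)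
    (hσ : Nat.card (sol 2 (⊥ : Subgroup N)) + 2 ^ a = 2 ^ (2 * a)) :
    ∃ Q : ℕ, 1 < Q ∧ 8 ∣ Q - 1 ∧ Nat.card V = Q ^ (2 ^ (a - 1)) ∧
      Nat.card (spec 2 (a - 1) N V) = 2 ^ (a - 1) * (∏ i ∈ Icc 2 a, (2 ^ i + 1)) * (Q - 1) ∧
      ((a = 2 ∧ Q = 9) ∨ ∃ v : V, v ≠ 0 ∧ MulAction.stabilizer N v = ⊥) := by
  obtain ⟨b, rfl⟩ : ∃ b, a = b + 1 := ⟨a - 1, by omega⟩
  rw [Nat.add_sub_cancel]
  have := H.fin
  obtain ⟨σ, -, hsol⟩ := Cfsg.Agent.H990.HT.sol_two_of H hz (fun _ hS => Cfsg.Agent.H813.HT.Sym_card_cen H hS)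
  have hσ2 : σ = -2 ^ (b + 1) := by
    have h1 := hsol ⊥ (bot_inf_eq _)
    rw [Subgroup.card_bot] at h1
    have h2 : (Nat.card (sol 2 (⊥ : Subgroup N)) : ℤ) + 2 ^ (b + 1) = 2 ^ (2 * (b + 1)) := by exact_mod_cast hσ
    push_cast at h1
    linarith
  subst hσ2
  -- the numbers of solutions
  have hf' : ∀ S : Subgroup N, S ⊓ Subgroup.center N = ⊥ → ∀ j ≤ b + 1, Nat.card S = 2 ^ j →
      Nat.card (sol 2 S) + 2 ^ (b + 1) = 2 ^ (2 * (b + 1) - j) := by
    intro S hS j hj hSj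
    have h1 := hsol S hS
    rw [hSj] at h1
    have h2 : (Nat.card (sol 2 S) + 2 ^ (b + 1)) * 2 ^ j = 2 ^ (2 * (b + 1) - j) * 2 ^ j := by
      rw [← pow_add, Nat.sub_add_cancel (by omega)]
      zify
      push_cast at h1
      linarith
    exact Nat.eq_of_mul_eq_mul_right (by positivity) h2
  have hf : ∀ S : Subgroup N, S ⊓ Subgroup.center N = ⊥ → ∀ j ≤ b, Nat.card S = 2 ^ j →
      Nat.card (sol 2 S) = 2 ^ (2 * (b + 1) - j) - 2 ^ (b + 1) := by
    intro S hS j hj hSj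
    have := hf' S hS j (by omega) hSj
    omega
  obtain ⟨S, hS, hSmax⟩ := exists_max H hz
  obtain ⟨j, hj, hSj⟩ := Cfsg.Agent.H813.HT.Sym_card_eq H hS
  have hjb : j = b := by
    have h0 := hf' S hS j hj hSj
    rw [hSj, ← pow_succ] at hSmax
    rcases Nat.lt_or_ge b j with h1 | h1
    · exfalso
      have h2 : j = b + 1 := by omega
      rw [h2, two_mul, Nat.add_sub_cancel] at h0
      have h3 : Nat.card (sol 2 S) = 0 := by omega
      have h4 : Nonempty (sol 2 S) := ⟨⟨1, Subgroup.one_mem _, one_pow _⟩⟩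
      have h5 : 0 < Nat.card (sol 2 S) := Nat.card_pos
      omega
    · by_contra hne
      have h2 : (2 : ℕ) ^ (j + 1) ≤ 2 ^ b := Nat.pow_le_pow_right (by norm_num) (by omega)
      have h3 : (2 : ℕ) ^ (b + 3) ≤ 2 ^ (2 * (b + 1) - j) := Nat.pow_le_pow_right (by norm_num) (by omega)
      have h4 : (2 : ℕ) ^ (b + 3) = 8 * 2 ^ b := by ring
      have h5 : (2 : ℕ) ^ (b + 1) = 2 * 2 ^ b := by ring
      have h6 : 0 < (2 : ℕ) ^ b := by positivity
      omega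
  subst hjb
  obtain ⟨Q, hQ⟩ : ∃ Q, Q = Nat.card (fixp V S) := ⟨_, rfl⟩
  have hV : Nat.card V = Q ^ 2 ^ j := by rw [hQ, ← hSj]; exact Cfsg.Agent.H813.HT.Sym_card_fixp H hS
  have hQ1 : 1 < Q := one_lt_of_pow H hV (by positivity)
  have hspec := Cfsg.Agent.H486.HT.card_spec H (r := j) (Q := Q) (f := fun i => 2 ^ (2 * (j + 1) - i) - 2 ^ (j + 1)) hf
    (by
      show 2 ^ (2 * (j + 1) - j) - 2 ^ (j + 1) = 2 ^ (j + 1)
      have e : 2 * (j + 1) - j = j + 1 + 1 := by omega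
      rw [e, pow_succ 2 (j + 1), mul_two, Nat.add_sub_cancel])
    (by
      intro S' hS' hS'j
      apply sub_pow_pos (k := 2 ^ j) (by positivity)
      rw [← hV, ← hS'j]
      exact (Cfsg.Agent.H813.HT.Sym_card_fixp H hS').symm)
  rw [prod_minus] at hspec
  have hsp : Nat.card (spec 2 j N V) = 2 ^ j * (∏ i ∈ Icc 2 (j + 1), (2 ^ i + 1)) * (Q - 1) := by
    have h1 := prod_pos' j j le_rfl
    have h2 : Nat.card (spec 2 j N V) * ∏ i ∈ range j, (2 ^ j - 2 ^ i) =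
        (2 ^ j * (∏ i ∈ Icc 2 (j + 1), (2 ^ i + 1)) * (Q - 1)) * ∏ i ∈ range j, (2 ^ j - 2 ^ i) := by
      rw [hspec]; ring
    exact Nat.eq_of_mul_eq_mul_right h1 h2
  have h8 : 8 ∣ Q - 1 := by
    rw [hQ]
    refine dvd_act H hz hS hSmax ?_
    have h1 := Cfsg.Agent.H813.HT.Sym_card_cen H hS
    rw [H.card, hz, hSj] at h1
    rw [hSj]
    have h2 : Nat.card (Subgroup.centralizer (S : Set N)) * 2 ^ j = 8 * 2 ^ j * 2 ^ j := by
      rw [h1]; ring
    exact Nat.eq_of_mul_eq_mul_right (by positivity) h2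
  refine ⟨Q, hQ1, h8, hV, hsp, ?_⟩
  have hQ9 : 9 ≤ Q := by omega
  have hF : Nat.card V = (Q ^ 2 ^ (j - 1)) ^ 2 := by
    rw [hV, ← pow_mul, ← pow_succ, Nat.sub_add_cancel (by omega)]
  rcases Nat.lt_or_ge 1 j with h3 | h3
  · -- `j ≥ 2`
    right
    refine Cfsg.Agent.H177.HT.Sym_free_of_lt H (r := j) (by omega) hF ?_
    rw [hF, hsp]
    obtain ⟨k, rfl⟩ : ∃ k, j = k + 2 := ⟨j - 2, by omega⟩
    have h4 := three_pow k
    have h5 : 3 ^ 2 ^ (k + 2) ≤ Q ^ 2 ^ (k + 2 - 1) := by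
      have e : (3 : ℕ) ^ 2 ^ (k + 2) = 9 ^ 2 ^ (k + 2 - 1) := by
        rw [show (9 : ℕ) = 3 ^ 2 by norm_num, ← pow_mul, ← pow_succ']
        rfl
      rw [e]
      exact Nat.pow_le_pow_left hQ9 _
    obtain ⟨F, hFd⟩ : ∃ F, F + 1 = Q ^ 2 ^ (k + 2 - 1) := ⟨Q ^ 2 ^ (k + 2 - 1) - 1, Nat.sub_add_cancel
      (Nat.one_le_pow _ _ (by omega))⟩
    rw [← hFd] at h5 ⊢
    have h6 : (F + 1) ^ 2 - 1 = F * (F + 2) := by
      have : (F + 1) ^ 2 = F * (F + 2) + 1 := by ring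
      rw [this, Nat.add_sub_cancel]
    have hF0 : 0 < F := by
      have : 0 < (2 : ℕ) ^ (2 * (k + 3)) := by positivity
      have : 0 < (2 : ℕ) ^ (k + 3) := by positivity
      omega
    have h9 : Nat.card (sol 2 (⊥ : Subgroup N)) ≤ 2 ^ (2 * (k + 3)) := by
      have e : 2 * (k + 2 + 1) = 2 * (k + 3) := rfl
      rw [← e]
      omega
    rw [h6, Nat.add_sub_cancel]
    have h10 : 0 < (2 : ℕ) ^ (k + 3) := by positivity
    have h7 : (Nat.card (sol 2 (⊥ : Subgroup N)) - 2) * F < F * (F + 2) := by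
      rw [mul_comm]
      exact Nat.mul_lt_mul_of_pos_left (by omega) hF0
    have h8 : (2 - 1) * (F * (F + 2)) = F * (F + 2) := by norm_num
    rw [h8]
    omega
  · -- `j = 1`
    have h4 : j = 1 := by omega
    subst h4
    rcases Nat.lt_or_ge 9 Q with h5 | h5
    · right
      refine Cfsg.Agent.H177.HT.Sym_free_of_lt H (r := 1) le_rfl hF ?_
      have h6 : Nat.card (sol 2 (⊥ : Subgroup N)) = 12 := by
        have h7 : (2 : ℕ) ^ (1 + 1) = 4 := by norm_num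
        have h8 : (2 : ℕ) ^ (2 * (1 + 1)) = 16 := by norm_num
        rw [h7, h8] at hσ
        omega
      rw [hF, h6]
      obtain ⟨x, rfl⟩ : ∃ x, Q = x + 10 := ⟨Q - 10, by omega⟩
      have e1 : ((x + 10) ^ 2 ^ (1 - 1)) ^ 2 = (x + 10) ^ 2 := by norm_num
      have e2 : (x + 10) ^ 2 ^ (1 - 1) = x + 10 := by norm_num
      rw [e1, e2]
      have e3 : (x + 10) ^ 2 - 1 = (x + 9) * (x + 11) := by
        have : (x + 10) ^ 2 = (x + 9) * (x + 11) + 1 := by ring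
        rw [this, Nat.add_sub_cancel]
      have e5 : x + 10 - 1 = x + 9 := rfl
      rw [e3, e5]
      have e6 : (2 - 1) * ((x + 9) * (x + 11)) = (x + 9) * (x + 11) := by norm_num
      rw [e6]
      have e7 : (12 - 2) * (x + 9) < (x + 9) * (x + 11) := by
        rw [mul_comm]
        exact Nat.mul_lt_mul_of_pos_left (by omega) (by omega)
      omega
    · left
      exact ⟨rfl, by omega⟩

end main

end Cfsg.Agent.H755.HT
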